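import Mathlib

/-!
# Expansion of a discrete valuation ring with coefficient field
-/

set_option autoImplicit false

universe u

namespace Groth.Agent.PSExp3

/-- A DVR over `k` with residue field `k` embeds in `k[[t]]`, compatibly with the augmentations. -/
theorem exists_expansion {k : Type u} [Field k] {R : Type u} [CommRing R] [IsDomain R] [IsDiscreteValuationRing R]
    (ι : k →+* R) (ev : R →+* k) (h : ev.comp ι = RingHom.id k) :
    ∃ ψ : R →+* PowerSeries k, Function.Injective ψ ∧ (PowerSeries.constantCoeff (R := k)).comp ψ = ev ∧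
      ψ.comp ι = PowerSeries.C := by
  have hι : ∀ a, ev (ι a) = a := fun a => RingHom.congr_fun h a
  have hker : RingHom.ker ev = IsLocalRing.maximalIdeal R :=
    IsLocalRing.eq_maximalIdeal (RingHom.ker_isMaximal_of_surjective _ fun a => ⟨ι a, hι a⟩)
  obtain ⟨π, hπ⟩ := IsDiscreteValuationRing.exists_irreducible R
  have hm : IsLocalRing.maximalIdeal R = Ideal.span {π} := (IsDiscreteValuationRing.irreducible_iff_uniformizer π).1 hπ
  have hπ0 : π ≠ 0 := hπ.ne_zero
  have htail : ∀ r : R, ∃ r', r - ι (ev r) = π * r' := fun r => by
    have : r - ι (ev r) ∈ RingHom.ker ev := by rw [RingHom.mem_ker, map_sub, hι, sub_self]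
    rw [hker, hm, Ideal.mem_span_singleton] at this
    exact this
  choose tail htail using htail
  have huniq : ∀ r r', r - ι (ev r) = π * r' → tail r = r' := fun r r' h' =>
    mul_left_cancel₀ hπ0 ((htail r).symm.trans h')
  let c : ℕ → R → k := fun n r => ev (tail^[n] r)
  let φ : R → PowerSeries k := fun r => PowerSeries.mk fun n => c n r
  have hφ0 : ∀ r, PowerSeries.coeff 0 (φ r) = ev r := fun r => PowerSeries.coeff_mk _ _
  have hφs : ∀ n r, PowerSeries.coeff (n + 1) (φ r) = PowerSeries.coeff n (φ (tail r)) := fun n r => by
    simp only [φ, PowerSeries.coeff_mk, c, Function.iterate_succ_apply]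
  have hadd : ∀ n r s, PowerSeries.coeff n (φ (r + s)) = PowerSeries.coeff n (φ r) + PowerSeries.coeff n (φ s) := by
    intro n
    induction n with
    | zero => intro r s; simp only [hφ0, map_add]
    | succ n ih =>
      intro r s
      rw [hφs, hφs, hφs, ← ih, huniq (r + s) (tail r + tail s) (by
        rw [map_add, map_add]; linear_combination htail r + htail s)]
  have hC : ∀ n a r, PowerSeries.coeff n (φ (ι a * r)) = a * PowerSeries.coeff n (φ r) := by
    intro n
    induction n with
    | zero => intro a r; simp only [hφ0, map_mul, hι]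
    | succ n ih =>
      intro a r
      rw [hφs, hφs, ← ih, huniq (ι a * r) (ι a * tail r) (by
        rw [map_mul, hι, map_mul]; linear_combination (ι a) * htail r)]
  have hmul : ∀ n r s, PowerSeries.coeff n (φ (r * s)) = PowerSeries.coeff n (φ r * φ s) := by
    intro n
    induction n using Nat.strong_induction_on with
    | _ n ih =>
      intro r s
      obtain _ | n := n
      · rw [hφ0, PowerSeries.coeff_zero_eq_constantCoeff, map_mul, map_mul,
          ← PowerSeries.coeff_zero_eq_constantCoeff_apply, ← PowerSeries.coeff_zero_eq_constantCoeff_apply, hφ0, hφ0]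
      · rw [hφs, huniq (r * s) (tail r * s + ι (ev r) * tail s) (by
          rw [map_mul, map_mul]; linear_combination s * htail r + (ι (ev r)) * htail s), hadd, hC, ih n (Nat.lt_succ_self n)]
        rw [PowerSeries.coeff_mul, PowerSeries.coeff_mul, Finset.Nat.antidiagonal_succ, Finset.sum_cons,
          Finset.sum_map, hφ0, hφs]
        simp only [Function.Embedding.coe_prodMap, Prod.map_apply, Function.Embedding.refl_apply]
        rw [add_comm]
        refine congrArg _ (Finset.sum_congr rfl fun x _ => ?_)
        exact (congrArg (· * _) (hφs x.1 r)).symm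
  have hone : φ 1 = 1 := by
    have ht : tail 1 = 0 := huniq _ _ (by rw [map_one, map_one, sub_self, mul_zero])
    have ht0 : tail 0 = 0 := huniq _ _ (by rw [map_zero, map_zero, sub_self, mul_zero])
    ext n
    rw [PowerSeries.coeff_one, PowerSeries.coeff_mk]
    obtain _ | n := n
    · simp [c]
    · simp only [c, Function.iterate_succ_apply, ht, Nat.succ_ne_zero, if_false]
      rw [Function.iterate_fixed ht0, map_zero]
  let ψ : R →+* PowerSeries k :=
    { toFun := φ
      map_one' := hone
      map_mul' := fun r s => PowerSeries.ext fun n => hmul n r s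
      map_zero' := PowerSeries.ext fun n => by
        have := hadd n 0 0
        rw [add_zero] at this
        rw [map_zero]
        linear_combination -this
      map_add' := fun r s => PowerSeries.ext fun n => by rw [map_add]; exact hadd n r s }
  have hconst : (PowerSeries.constantCoeff (R := k)).comp ψ = ev := RingHom.ext fun r => by
    rw [RingHom.comp_apply, ← PowerSeries.coeff_zero_eq_constantCoeff_apply]; exact hφ0 r
  have hπev : ev π = 0 := by rw [← RingHom.mem_ker, hker, hm]; exact Ideal.mem_span_singleton_self π
  have hψπ : ψ π ≠ 0 := fun h0 => by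
    have h1 := congrArg (PowerSeries.coeff 1) h0
    rw [map_zero] at h1
    change PowerSeries.coeff 1 (φ π) = 0 at h1
    rw [hφs, hφ0, huniq π 1 (by rw [hπev, map_zero, sub_zero, mul_one]), map_one] at h1
    exact one_ne_zero h1
  refine ⟨ψ, (injective_iff_map_eq_zero ψ).2 fun r hr => ?_, hconst, RingHom.ext fun a => ?_⟩
  · by_contra hr0
    obtain ⟨n, v, rfl⟩ := IsDiscreteValuationRing.eq_unit_mul_pow_irreducible hr0 hπ
    rw [map_mul, map_pow] at hr
    exact pow_ne_zero n hψπ ((mul_eq_zero.1 hr).resolve_left (v.isUnit.map ψ).ne_zero)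
  · ext n
    change PowerSeries.coeff n (φ (ι a)) = _
    rw [← mul_one (ι a), hC, hone, PowerSeries.coeff_one, PowerSeries.coeff_C]
    split <;> simp

end Groth.Agent.PSExp3
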